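import Groth.Agent.CastLib.Dedekind
import Groth.Agent.ProjBundleLib.HProj
import Groth.Agent.CastLib.ExcCriterion
import Groth.Agent.JacLib.IdealPull
import Groth.Agent.BlowCompLib.Flat
import Groth.Agent.CurveP1Lib.Transport
import Groth.Agent.BlowChartLib.RegStalk

/-!
# Base changes of arithmetic surfaces to localisations and étale extensions
-/

set_option autoImplicit false
set_option backward.isDefEq.respectTransparency false
set_option linter.style.haveILetI false
set_option maxHeartbeats 1000000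
set_option synthInstance.maxHeartbeats 200000

universe u

open CategoryTheory CategoryTheory.Limits AlgebraicGeometry TopologicalSpace

noncomputable section

namespace Groth.Agent.EtSurf

attribute [local instance 10] specializationOrder

/-- No strict specialisations inside a fibre, so chains map to chains. -/
theorem strictMono_of_fibres {Y X : Scheme.{u}} (q : Y ⟶ X) (h : ∀ a b : Y, a ⤳ b → q a = q b → a = b) :
    StrictMono q := fun a b hab => by
  rw [lt_iff_le_not_ge] at hab ⊢
  simp only [Scheme.le_iff_specializes] at hab ⊢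
  refine ⟨hab.1.map q.continuous, fun hc => hab.2 ?_⟩
  rw [h b a hab.1 ((hab.1.map q.continuous).antisymm hc).eq]

theorem dim_le_of_fibres {Y X : Scheme.{u}} (q : Y ⟶ X) (h : ∀ a b : Y, a ⤳ b → q a = q b → a = b) :
    topologicalKrullDim Y ≤ topologicalKrullDim X := by
  rw [ASp.topologicalKrullDim_eq_krullDim, ASp.topologicalKrullDim_eq_krullDim]
  exact Order.krullDim_le_of_strictMono q (strictMono_of_fibres q h)

/-- Generalisations lift, so chains lift. -/
theorem exists_lift_chain {Y X : Scheme.{u}} (q : Y ⟶ X) [Flat q] {η ξ : X} {c : Y} (h1 : η ⤳ ξ) (h2 : ξ ⤳ q c)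
    (n1 : η ≠ ξ) (n2 : ξ ≠ q c) : (2 : WithBot ℕ∞) ≤ topologicalKrullDim Y := by
  obtain ⟨b, hb, hbξ⟩ := Flat.generalizingMap q h2
  obtain ⟨a, ha, haη⟩ := Flat.generalizingMap q (hbξ ▸ h1)
  have l1 : c < b := lt_of_le_not_ge (Scheme.le_iff_specializes.2 hb) fun h => n2 (by
    rw [← hbξ, ((Scheme.le_iff_specializes.1 h).antisymm hb).eq])
  have l2 : b < a := lt_of_le_not_ge (Scheme.le_iff_specializes.2 ha) fun h => n1 (by
    rw [← haη, ← hbξ, ((Scheme.le_iff_specializes.1 h).antisymm ha).eq])
  rw [ASp.topologicalKrullDim_eq_krullDim]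
  have h := Order.LTSeries.length_le_krullDim (((RelSeries.singleton _ c).snoc b l1).snoc a (by simpa using l2))
  exact le_trans (by simp) h

theorem isPreimmersion_spec_loc {R : Type u} [CommRing R] (M : Submonoid R) (A : Type u) [CommRing A] [Algebra R A]
    [IsLocalization M A] : IsPreimmersion (Spec.map (CommRingCat.ofHom (algebraMap R A))) :=
  IsPreimmersion.of_isLocalization M

theorem flat_spec_loc {R : Type u} [CommRing R] (M : Submonoid R) (A : Type u) [CommRing A] [Algebra R A]
    [IsLocalization M A] : Flat (Spec.map (CommRingCat.ofHom (algebraMap R A))) :=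
  (HasRingHomProperty.Spec_iff (P := @Flat)).2 (by
    show (algebraMap R A).Flat
    rw [RingHom.flat_algebraMap_iff]
    exact IsLocalization.flat A M)

/-- A flat preimmersion induces isomorphisms of stalks. -/
theorem isIso_stalkMap {Y X : Scheme.{u}} (p : Y ⟶ X) [Flat p] [IsPreimmersion p] (a : Y) : IsIso (p.stalkMap a) := by
  refine (ConcreteCategory.isIso_iff_bijective _).2 ⟨?_, p.stalkMap_surjective a⟩
  letI := (p.stalkMap a).hom.toAlgebra
  haveI : Module.Flat (X.presheaf.stalk (p a)) (Y.presheaf.stalk a) := Flat.stalkMap p a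
  haveI : IsLocalHom (algebraMap (X.presheaf.stalk (p a)) (Y.presheaf.stalk a)) :=
    inferInstanceAs (IsLocalHom (p.stalkMap a).hom)
  haveI := Module.FaithfullyFlat.of_flat_of_isLocalHom (A := X.presheaf.stalk (p a)) (B := Y.presheaf.stalk a)
  exact FaithfulSMul.algebraMap_injective (X.presheaf.stalk (p a)) (Y.presheaf.stalk a)

theorem regular_of_preimmersion {Y X : Scheme.{u}} (p : Y ⟶ X) [Flat p] [IsPreimmersion p]
    (hX : ∀ x : X, IsRegularLocalRing (X.presheaf.stalk x)) (a : Y) : IsRegularLocalRing (Y.presheaf.stalk a) := by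
  haveI := isIso_stalkMap p a
  haveI := hX (p a)
  exact IsRegularLocalRing.of_ringEquiv (asIso (p.stalkMap a)).commRingCatIsoToRingEquiv

/-- Embeddings into projective space base change. -/
theorem exists_proj_baseChange {S S' X X' : Scheme.{u}} {f : X ⟶ S} {f' : X' ⟶ S'} {g : S' ⟶ S} {a : X' ⟶ X}
    (sq : IsPullback a f' f g)
    (h : ∃ (n : ℕ) (i : X ⟶ CohB1.ProjSpaceOver n S), IsClosedImmersion i ∧ i ≫ CohB1.ProjSpaceOver.toBase n S = f) :
    ∃ (n : ℕ) (i : X' ⟶ CohB1.ProjSpaceOver n S'), IsClosedImmersion i ∧ i ≫ CohB1.ProjSpaceOver.toBase n S' = f' :=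
  ProjBundleLib.isHProjective_baseChange sq h

variable {R : Type u} [CommRing R] {A : Type u} [CommRing A] [Algebra R A]

/-- Morphisms all of whose values lie over the prime factor through the localisation. -/
theorem exists_lift_loc (m : Ideal R) [m.IsPrime] [IsLocalization.AtPrime A m] {T : Scheme.{u}}
    (h : T ⟶ Spec (CommRingCat.of R)) (hh : ∀ t, ((h t : PrimeSpectrum R)).asIdeal ≤ m) :
    ∃ h' : T ⟶ Spec (CommRingCat.of A), h' ≫ Spec.map (CommRingCat.ofHom (algebraMap R A)) = h := by
  let φ : R →+* Γ(T, ⊤) := ((Scheme.ΓSpecIso (CommRingCat.of R)).inv ≫ h.appTop).hom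
  have hu : ∀ y : m.primeCompl, IsUnit (φ y) := fun y => by
    refine T.toRingedSpace.isUnit_of_isUnit_germ ⊤ _ fun t ht => (T.mem_basicOpen (U := ⊤) _ t trivial).1 ?_
    have hpre : h ⁻¹ᵁ (Spec (CommRingCat.of R)).basicOpen ((Scheme.ΓSpecIso (CommRingCat.of R)).inv y.1) =
        T.basicOpen (φ y.1) := Scheme.preimage_basicOpen_top h _
    rw [← hpre]
    show h t ∈ (Spec (CommRingCat.of R)).basicOpen _
    rw [basicOpen_eq_of_affine]
    exact fun hy => y.2 (hh t hy)
  refine ⟨T.toSpecΓ ≫ Spec.map (CommRingCat.ofHom (IsLocalization.lift (S := A) hu)), ?_⟩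
  rw [Category.assoc, ← Spec.map_comp, ← CommRingCat.ofHom_comp, IsLocalization.lift_comp]
  refine ext_of_isAffine (CommRingCat.hom_ext (RingHom.ext fun x => ?_))
  obtain ⟨r, rfl⟩ : ∃ r, (Scheme.ΓSpecIso (CommRingCat.of R)).inv r = x :=
    ⟨_, Iso.hom_inv_id_apply (Scheme.ΓSpecIso (CommRingCat.of R)) x⟩
  rw [Scheme.Hom.comp_appTop, CommRingCat.comp_apply]
  erw [← CommRingCat.comp_apply (Scheme.ΓSpecIso (CommRingCat.of R)).inv, ← Scheme.ΓSpecIso_inv_naturality]
  rw [CommRingCat.comp_apply, Scheme.toSpecΓ_appTop]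
  exact Iso.inv_hom_id_apply (Scheme.ΓSpecIso Γ(T, ⊤)) _

theorem range_loc (m : Ideal R) [m.IsPrime] [IsLocalization.AtPrime A m] :
    Set.range (Spec.map (CommRingCat.ofHom (algebraMap R A))) = {p | (p : PrimeSpectrum R).asIdeal ≤ m} := by
  refine (PrimeSpectrum.localization_comap_range A m.primeCompl).trans (Set.ext fun p => ?_)
  simp only [Set.mem_ofPred, Set.disjoint_left, SetLike.mem_coe]
  exact ⟨fun h x hx => by_contra fun hn => h (show x ∈ m.primeCompl from hn) hx, fun h x hx hxp => hx (h hxp)⟩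

theorem le_closedPoint (m : Ideal R) [m.IsPrime] [IsLocalRing A] [IsLocalization.AtPrime A m] :
    ((Spec.map (CommRingCat.ofHom (algebraMap R A)) (IsLocalRing.closedPoint A)) : PrimeSpectrum R).asIdeal = m :=
  IsLocalization.AtPrime.comap_maximalIdeal A m

end Groth.Agent.EtSurf
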