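import Groth.Agent.EtSurfLib.Loc
import Groth.Agent.CastLib.Arith
import Groth.Agent.CanonFacLib.Nef
import Groth.Agent.NakaiLib.ProperKleiman
import Groth.Agent.NumPullLib.Surj
import Groth.Agent.S13320
import Groth.Agent.S13307
import Groth.Agent.CanonFacLib.Exists
import Groth.Agent.CastLib.SelfInt

/-!
# Exceptional curves and localisation
-/

set_option autoImplicit false
set_option backward.isDefEq.respectTransparency false
set_option linter.style.haveILetI false
set_option maxHeartbeats 1000000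
set_option synthInstance.maxHeartbeats 200000

universe u

open CategoryTheory CategoryTheory.Limits AlgebraicGeometry TopologicalSpace

noncomputable section

namespace Groth.Agent.EtSurf

attribute [local instance 10] specializationOrder

variable {R : Type u} [CommRing R] [IsDomain R] {X : Over (Spec (CommRingCat.of R))}
  {A : Type u} [CommRing A] [IsDomain A] [IsDiscreteValuationRing A] [Algebra R A]
  (m : Ideal R) [m.IsPrime] [IsLocalization.AtPrime A m] {Xl : Over (Spec (CommRingCat.of A))}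
  {pr : Xl.left ⟶ X.left}
  (sq : IsPullback pr Xl.hom X.hom (Spec.map (CommRingCat.ofHom (algebraMap R A))))

include sq m in
theorem pr_facts : IsPreimmersion pr ∧ Flat pr ∧
    ∀ x : X.left, ((X.hom x : PrimeSpectrum R)).asIdeal ≤ m → x ∈ Set.range pr := by
  haveI := isPreimmersion_spec_loc m.primeCompl A
  haveI := flat_spec_loc m.primeCompl A
  refine ⟨MorphismProperty.of_isPullback (P := @IsPreimmersion) sq.flip inferInstance,
    MorphismProperty.of_isPullback (P := @Flat) sq.flip inferInstance, fun x hx => ?_⟩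
  obtain ⟨p, hp⟩ := (range_loc (A := A) m).ge hx
  obtain ⟨a, ha, -⟩ := Scheme.exists_preimage_of_isPullback sq x p hp.symm
  exact ⟨a, ha⟩

include sq m in
/-- Localisations of arithmetic surfaces. -/
theorem locSurf [IsDedekindDomain R] (hX : ArSurf.IsArithSurface R X)
    (hdim : (2 : WithBot ℕ∞) ≤ topologicalKrullDim Xl.left) : ArSurf.IsArithSurface A Xl := by
  obtain ⟨hp, hf, hr⟩ := pr_facts m sq
  haveI := hp
  haveI := hf
  haveI := hX.2.1
  haveI := hX.2.2.2.1
  have hreg := regular_of_preimmersion pr hX.1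
  obtain ⟨g, hg⟩ := hr (genericPoint X.left) (by
    rw [CastLib.apply_genericPoint hX, CastLib.asIdeal_genericPoint]
    exact bot_le)
  have hspec : ∀ a : Xl.left, g ⤳ a := fun a =>
    pr.isEmbedding.isInducing.specializes_iff.1 (hg ▸ genericPoint_specializes _)
  haveI : IrreducibleSpace Xl.left := by
    haveI : Nonempty Xl.left := ⟨g⟩
    haveI : PreirreducibleSpace Xl.left := ⟨by
      rw [show (Set.univ : Set Xl.left) = closure {g} from (Set.eq_univ_of_forall fun a => (hspec a).mem_closure).symm]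
      exact isIrreducible_singleton.closure.2⟩
    exact ⟨inferInstance⟩
  haveI : ∀ a : Xl.left, _root_.IsReduced (Xl.left.presheaf.stalk a) := fun a => by
    haveI := hreg a
    haveI := RegLocal.isDomain (Xl.left.presheaf.stalk a)
    infer_instance
  haveI : IsReduced Xl.left := isReduced_of_isReduced_stalk _
  haveI : IsIntegral Xl.left := isIntegral_of_irreducibleSpace_of_isReduced _
  refine ⟨hreg, inferInstance, le_antisymm ((dim_le_of_fibres pr fun a b _ h => pr.isEmbedding.injective h).trans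
    hX.2.2.1.le) hdim, MorphismProperty.of_isPullback (P := @Flat) sq inferInstance,
    exists_proj_baseChange sq hX.2.2.2.2⟩

include sq m in
/-- Subschemes lying over the prime lift to the localisation. -/
theorem exists_lift_curve {E : Scheme.{u}} (ι : E ⟶ X.left) [IsClosedImmersion ι]
    (hι : ∀ e, ((X.hom (ι e) : PrimeSpectrum R)).asIdeal = m) :
    ∃ ι' : E ⟶ Xl.left, ι' ≫ pr = ι ∧ IsClosedImmersion ι' ∧ IsPullback (𝟙 E) ι' ι pr ∧
      ∀ e, Xl.hom (ι' e) = IsLocalRing.closedPoint A := by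
  obtain ⟨h', hh'⟩ := exists_lift_loc (A := A) m (ι ≫ X.hom) fun e => (hι e).le
  obtain ⟨hp, -, -⟩ := pr_facts m sq
  haveI := hp
  let ι' : E ⟶ Xl.left := sq.lift ι h' hh'.symm
  have h1 : ι' ≫ pr = ι := sq.lift_fst _ _ _
  haveI : IsClosedImmersion (ι' ≫ pr) := by rw [h1]; infer_instance
  haveI : IsSeparated pr := inferInstance
  refine ⟨ι', h1, IsClosedImmersion.of_comp ι' pr, ?_, fun e => ?_⟩
  · exact (IsPullback.of_horiz_isIso_mono (fst := 𝟙 E) (snd := ι' ) (f := ι) (g := pr) ⟨by simp [h1]⟩)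
  · haveI := isPreimmersion_spec_loc m.primeCompl A
    apply (Spec.map (CommRingCat.ofHom (algebraMap R A))).isEmbedding.injective
    apply PrimeSpectrum.ext
    rw [le_closedPoint m, ← hι e]
    show (((ι' ≫ Xl.hom ≫ Spec.map (CommRingCat.ofHom (algebraMap R A))) e : PrimeSpectrum R)).asIdeal = _
    rw [← sq.w, reassoc_of% h1]
    rfl

omit [IsDomain R] in
/-- Kernels and conormal sheaves along a flat monomorphic base change. -/
theorem conormal_transfer {Y Z E : Scheme.{u}} (p : Z ⟶ Y) [Flat p] (ι : E ⟶ Y) [IsClosedImmersion ι]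
    (ι' : E ⟶ Z) (sqE : IsPullback (𝟙 E) ι' ι p) (hC : BlowUp.IsEffCartierIdeal ι.ker) :
    BlowUp.IsEffCartierIdeal ι'.ker ∧
      Nonempty ((Scheme.Modules.pullback p).obj (ClSub.idealMod ι.ker) ≅ ClSub.idealMod ι'.ker) := by
  have hk : ι'.ker = ι.ker.comap p := by
    rw [← sqE.flip.isoPullback_hom_fst, Scheme.Hom.ker_comp_of_isIso]
    exact Scheme.IdealSheafData.ker_fst_of_isClosedImmersion _ _
  have h := BlowCompLib.isEffCartier_comap_flat hC p
  rw [hk]
  exact ⟨h, JacLib.nonempty_iso_pullback_idealMod p ι.ker hC h⟩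

omit [IsDomain R] in
/-- Exceptional curves go up. -/
theorem exc_up {Y Z E : Scheme.{u}} (p : Z ⟶ Y) [Flat p] (ι : E ⟶ Y) [IsClosedImmersion ι]
    (ι' : E ⟶ Z) (sqE : IsPullback (𝟙 E) ι' ι p) (h : Models.IsExcCurve ι) : Models.IsExcCurve ι' := by
  obtain ⟨hC, k, _, e, ⟨t⟩⟩ := h
  obtain ⟨hC', ⟨c⟩⟩ := conormal_transfer p ι ι' sqE hC
  refine ⟨hC', k, inferInstance, e, ⟨?_⟩⟩
  refine (Scheme.Modules.pullback (e.hom ≫ ι')).mapIso c.symm ≪≫
    (Scheme.Modules.pullbackComp (e.hom ≫ ι') p).app _ ≪≫ eqToIso (congrArg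
      (fun f => (Scheme.Modules.pullback f).obj (ClSub.idealMod ι.ker)) ?_) ≪≫ t
  rw [Category.assoc, ← sqE.w, Category.id_comp]

omit [IsDomain R] in
/-- Exceptional curves go down, if the image is a Cartier divisor. -/
theorem exc_down {Y Z E : Scheme.{u}} (p : Z ⟶ Y) [Flat p] (ι : E ⟶ Y) [IsClosedImmersion ι]
    (ι' : E ⟶ Z) (sqE : IsPullback (𝟙 E) ι' ι p) (hC : BlowUp.IsEffCartierIdeal ι.ker)
    (h : Models.IsExcCurve ι') : Models.IsExcCurve ι := by
  obtain ⟨-, k, _, e, ⟨t⟩⟩ := h
  obtain ⟨-, ⟨c⟩⟩ := conormal_transfer p ι ι' sqE hC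
  refine ⟨hC, k, inferInstance, e, ⟨?_⟩⟩
  refine eqToIso (congrArg
      (fun f => (Scheme.Modules.pullback f).obj (ClSub.idealMod ι.ker)) ?_) ≪≫
    ((Scheme.Modules.pullbackComp (e.hom ≫ ι') p).app _).symm ≪≫
    (Scheme.Modules.pullback (e.hom ≫ ι')).mapIso c ≪≫ t
  rw [Category.assoc, ← sqE.w, Category.id_comp]

/-- Degrees of nef modules stay non-negative on covering curves. -/
theorem curveDeg_nonneg_pullback {k k' : Type u} [Field k] [Field k'] [Algebra k k'] [FiniteDimensional k k']
    {C C' : Scheme.{u}} [C.Over (Spec (CommRingCat.of k))] [IsProper (C ↘ Spec (CommRingCat.of k))] [IsIntegral C]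
    [C'.Over (Spec (CommRingCat.of k'))] [IsProper (C' ↘ Spec (CommRingCat.of k'))] [IsIntegral C']
    (hC : topologicalKrullDim C = 1) (hC' : topologicalKrullDim C' = 1) (ν : C' ⟶ C)
    (hν : ν ≫ (C ↘ Spec (CommRingCat.of k)) =
      (C' ↘ Spec (CommRingCat.of k')) ≫ Spec.map (CommRingCat.ofHom (algebraMap k k')))
    {H : C'.Modules} (hH : CohB1.IsAmple H) {L : C.Modules} (hL : PicF.IsInvertible L)
    (h : 0 ≤ ArSurf.curveDeg k C L) : 0 ≤ ArSurf.curveDeg k' C' ((Scheme.Modules.pullback ν).obj L) := by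
  letI o : C'.Over (Spec (CommRingCat.of k)) :=
    ⟨(C' ↘ Spec (CommRingCat.of k')) ≫ Spec.map (CommRingCat.ofHom (algebraMap k k'))⟩
  haveI : IsFinite (Spec.map (CommRingCat.ofHom (algebraMap k k'))) :=
    (IsFinite.SpecMap_iff _).2 (RingHom.finite_algebraMap.2 inferInstance)
  haveI : IsProper (C' ↘ Spec (CommRingCat.of k)) :=
    inferInstanceAs (IsProper ((C' ↘ Spec (CommRingCat.of k')) ≫ Spec.map (CommRingCat.ofHom (algebraMap k k'))))
  haveI : IsProper (ν ≫ (C ↘ Spec (CommRingCat.of k))) := hν ▸ inferInstanceAs (IsProper (C' ↘ Spec (CommRingCat.of k)))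
  haveI : IsProper ν := IsProper.of_comp ν (C ↘ Spec (CommRingCat.of k))
  have hν' : ν ≫ (C ↘ Spec (CommRingCat.of k)) = C' ↘ Spec (CommRingCat.of k) := hν
  have hpos : (0 : ℤ) < Module.finrank k k' := by exact_mod_cast Module.finrank_pos
  have key : ∀ (D : Scheme.{u}) [D.Over (Spec (CommRingCat.of k))] [IsProper (D ↘ Spec (CommRingCat.of k))]
      [IsIntegral D] (hD : topologicalKrullDim D = 1) (M : D.Modules) (hM : PicF.IsInvertible M),
      Nakai.NefP k hM ↔ 0 ≤ ArSurf.curveDeg k D M := fun D _ _ _ hD M hM => by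
    have e : ArSurf.curveDeg k D M =
        IntLib.pairing k (IntLib.compMod (genericPoint D)) (Nakai.cl hM) := by
      refine Eq.trans ?_ (NumPullLib.curveDeg_eq_compMod k hM D (𝟙 D) hD)
      refine (CastLib.curveDeg_iso hD.le ((Scheme.Modules.pullbackId D).app M)).symm.trans ?_
      rw [Pic13.curveDeg]
      rfl
    rw [e]
    refine ⟨fun hn => hn _ ?_, fun hn ξ hξ => ?_⟩
    · rw [genericPoint_closure, IsHomeomorph.topologicalKrullDim_eq _ (Homeomorph.Set.univ D).isHomeomorph, hD,
        Nat.cast_one]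
    · have : ξ = genericPoint D := by
        by_contra hne
        obtain ⟨z, hz, hzξ⟩ : ∃ z ∈ closure ({ξ} : Set D), z ≠ ξ := by
          by_contra hcl
          push Not at hcl
          haveI : Subsingleton ↥(closure ({ξ} : Set D)) :=
            ⟨fun p q => Subtype.ext ((hcl p.1 p.2).trans (hcl q.1 q.2).symm)⟩
          have h0 := topologicalKrullDim_zero_of_discreteTopology ↥(closure ({ξ} : Set D))
          rw [hξ] at h0
          norm_num at h0
        have lt : ∀ {p q : D}, p ⤳ q → q ≠ p → q < p := fun {p q} hs hn => lt_of_le_not_ge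
          (Scheme.le_iff_specializes.2 hs) fun h' => hn ((Scheme.le_iff_specializes.1 h').antisymm hs).eq
        have h4 := Order.LTSeries.length_le_krullDim
          (((RelSeries.singleton _ z).snoc ξ (lt (specializes_iff_mem_closure.2 hz) hzξ)).snoc (genericPoint D)
            (by simpa using lt (genericPoint_specializes ξ) hne))
        rw [← ASp.topologicalKrullDim_eq_krullDim, hD] at h4
        norm_num at h4
      rw [this]
      exact hn
  have h1 : Nakai.NefP k (AmpleLib.isInvertible_pullback ν hL) :=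
    Nakai.NefP.pullback ν k hν' hH ((key C hC L hL).2 h)
  have h2 := (key C' hC' _ _).1 h1
  rw [CastLib.curveDeg_restrict (k := k) (k' := k') C' rfl] at h2
  exact (mul_nonneg_iff_of_pos_left hpos).1 h2

end Groth.Agent.EtSurf
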